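import Mathlib

/-! Lang's theorem for semilinear maps over a separably closed field. -/

set_option autoImplicit false

universe u v

open Polynomial

namespace Groth.Agent.H83.FrobFix

variable {p : ℕ} [Fact p.Prime] {K : Type u} [Field K] [CharP K p] {V : Type v} [AddCommGroup V] [Module K V]
  [FiniteDimensional K V] {T : V →+ V}

theorem linearIndependent_image (hT : ∀ (c : K) (x : V), T (c • x) = c ^ p • T x)
    (hspan : Submodule.span K (Set.range T) = ⊤) {ι : Type} {u : ι → V} (hu : LinearIndependent K u) :
    LinearIndependent K (T ∘ u) := by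
  classical
  let b := Module.Basis.sumExtend hu
  haveI : Finite (ι ⊕ Module.Basis.sumExtendIndex hu) := Module.Finite.finite_basis b
  haveI := Fintype.ofFinite (ι ⊕ Module.Basis.sumExtendIndex hu)
  have hsp : ⊤ ≤ Submodule.span K (Set.range (T ∘ b)) := by
    rw [← hspan, Submodule.span_le]
    rintro _ ⟨x, rfl⟩
    rw [← b.sum_repr x, map_sum]
    refine Submodule.sum_mem _ fun i _ => ?_
    rw [hT]
    exact Submodule.smul_mem _ _ (Submodule.subset_span ⟨i, rfl⟩)
  have hli := linearIndependent_of_top_le_span_of_card_eq_finrank hsp (Module.finrank_eq_card_basis b).symm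
  have h : (T ∘ u) = (T ∘ b) ∘ Sum.inl := funext fun i => by simp [b, Module.Basis.sumExtend]; rfl
  rw [h]
  exact hli.comp _ Sum.inl_injective

variable [IsSepClosed K]

theorem exists_pow_sub_self (c : K) : ∃ μ : K, μ ^ p - μ = c := by
  have hp : 1 < p := (Fact.out : p.Prime).one_lt
  let f : K[X] := X ^ p - X - C c
  have hdeg : f.degree = p := by
    show (X ^ p - X - C c : K[X]).degree = _
    rw [sub_sub, degree_sub_eq_left_of_degree_lt] <;> rw [degree_X_pow]
    rw [degree_X_add_C]; exact_mod_cast hp
  have hsep : f.Separable := by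
    rw [separable_def']
    refine ⟨0, -1, ?_⟩
    simp [f, derivative_X_pow, CharP.cast_eq_zero]
  obtain ⟨μ, hμ⟩ := IsSepClosed.exists_root f (by rw [hdeg]; exact_mod_cast (by omega : p ≠ 0)) hsep
  exact ⟨μ, by simpa [f, sub_eq_zero] using hμ⟩

/-- The polynomials expressing the coordinates of a fixed vector. -/
noncomputable def coordPoly (p : ℕ) (a : ℕ → K) : ℕ → K[X]
  | 0 => C (a 0) * X ^ p
  | i + 1 => coordPoly p a i ^ p + C (a (i + 1)) * X ^ p

omit [IsSepClosed K] in
theorem coordPoly_derivative (a : ℕ → K) (i : ℕ) : derivative (coordPoly p a i) = 0 := by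
  cases i with
  | zero => simp [coordPoly, derivative_X_pow, CharP.cast_eq_zero]
  | succ i => simp [coordPoly, derivative_pow, CharP.cast_eq_zero]

omit [IsSepClosed K] [CharP K p] in
theorem coordPoly_degree (a : ℕ → K) (ha : a 0 ≠ 0) : ∀ i, (coordPoly p a i).natDegree = p ^ (i + 1)
  | 0 => by simp [coordPoly, natDegree_C_mul_X_pow p (a 0) ha]
  | i + 1 => by
    have hp : 1 < p := (Fact.out : p.Prime).one_lt
    have h1 : (coordPoly p a i ^ p).natDegree = p ^ (i + 2) := by
      rw [natDegree_pow, coordPoly_degree a ha i]; ring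
    rw [coordPoly, natDegree_add_eq_left_of_natDegree_lt, h1]
    rw [h1]
    refine lt_of_le_of_lt (natDegree_C_mul_X_pow_le _ _) ?_
    calc p = p ^ 1 := (pow_one p).symm
      _ < p ^ (i + 2) := Nat.pow_lt_pow_right hp (by omega)

theorem exists_fixed_ne_zero (hT : ∀ (c : K) (x : V), T (c • x) = c ^ p • T x)
    (hspan : Submodule.span K (Set.range T) = ⊤) {v : V} (hv : v ≠ 0) : ∃ w : V, w ≠ 0 ∧ T w = w := by
  classical
  have hp : 1 < p := (Fact.out : p.Prime).one_lt
  let P : ℕ → Prop := fun r => T^[r] v ∈ Submodule.span K (Set.range fun i : Fin r => T^[i] v)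
  have hex : ∃ r, P r := by
    by_contra hcon
    push Not at hcon
    have hall : ∀ r, LinearIndependent K (fun i : Fin r => T^[i] v) := by
      intro r
      induction r with
      | zero => exact linearIndependent_empty_type
      | succ r ih =>
        rw [linearIndependent_finSucc']
        exact ⟨ih, hcon r⟩
    have := (hall (Module.finrank K V + 1)).fintype_card_le_finrank
    simp at this
  obtain ⟨r, hr, hmin⟩ : ∃ r, P r ∧ ∀ j < r, ¬ P j := ⟨Nat.find hex, Nat.find_spec hex, fun j => Nat.find_min hex⟩
  have hli : ∀ j ≤ r, LinearIndependent K (fun i : Fin j => T^[i] v) := by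
    intro j hj
    induction j with
    | zero => exact linearIndependent_empty_type
    | succ j ih =>
      rw [linearIndependent_finSucc']
      exact ⟨ih (by omega), hmin j (by omega)⟩
  obtain ⟨m, rfl⟩ : ∃ m, r = m + 1 := by
    refine Nat.exists_eq_succ_of_ne_zero fun h0 => hv ?_
    subst h0
    have : v ∈ Submodule.span K (Set.range fun i : Fin 0 => T^[i] v) := hr
    simpa using this
  obtain ⟨c, hc⟩ := (Submodule.mem_span_range_iff_exists_fun K).mp hr
  let a : ℕ → K := fun i => if h : i < m + 1 then c ⟨i, h⟩ else 0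
  have hc' : T^[m + 1] v = ∑ i ∈ Finset.range (m + 1), a i • T^[i] v := by
    rw [← hc, Finset.sum_range]
    exact Finset.sum_congr rfl fun i _ => by simp [a, Fin.is_le]
  have hsucc : ∀ i, T (T^[i] v) = T^[i + 1] v := fun i => (Function.iterate_succ_apply' T i v).symm
  have ha : a 0 ≠ 0 := by
    intro h0
    have hli' := linearIndependent_image hT hspan (hli (m + 1) le_rfl)
    have hrel : T^[m + 1] v ∈ Submodule.span K (Set.range fun i : Fin m => T^[i.1 + 1] v) := by
      rw [hc', Finset.sum_range_succ', h0, zero_smul, add_zero]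
      exact Submodule.sum_mem _ fun i hi => Submodule.smul_mem _ _ (Submodule.subset_span ⟨⟨i, Finset.mem_range.mp hi⟩, rfl⟩)
    have h2 := (linearIndependent_finSucc'.mp hli').2
    apply h2
    simpa [Function.comp_def, hsucc, Fin.init_def, Fin.val_castSucc] using hrel
  let Q : K[X] := coordPoly p a m - X
  have hQdeg : Q.natDegree = p ^ (m + 1) := by
    rw [natDegree_sub_eq_left_of_natDegree_lt, coordPoly_degree a ha]
    rw [coordPoly_degree a ha, natDegree_X]
    exact Nat.one_lt_pow (by omega) hp
  have hQsep : Q.Separable := by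
    rw [separable_def']
    exact ⟨0, -1, by simp [Q, coordPoly_derivative]⟩
  have hp0 : p ≠ 0 := by omega
  have hQ0 : Q.coeff 0 = 0 := by
    have : ∀ i, (coordPoly p a i).coeff 0 = 0 := by
      intro i
      induction i with
      | zero =>
        rw [coeff_zero_eq_eval_zero]
        simp [coordPoly, zero_pow hp0]
      | succ i ih =>
        rw [coeff_zero_eq_eval_zero] at ih ⊢
        simp [coordPoly, ih, zero_pow hp0]
    simp [Q, this]
  have hQne : Q ≠ 0 := ne_zero_of_natDegree_gt (n := 0) (by rw [hQdeg]; positivity)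
  obtain ⟨Q', hQ'⟩ : X ∣ Q := X_dvd_iff.mpr hQ0
  have hQ'ne : Q' ≠ 0 := by rintro rfl; exact hQne (by rw [hQ', mul_zero])
  have hQ'deg : Q'.degree ≠ 0 := by
    rw [degree_eq_natDegree hQ'ne]
    intro h
    have h1 : Q.natDegree = 1 + Q'.natDegree := by rw [hQ', natDegree_mul X_ne_zero hQ'ne, natDegree_X]
    have h2 : Q'.natDegree = 0 := by exact_mod_cast h
    have := Nat.one_lt_pow (n := m + 1) (by omega) hp
    omega
  have hsep' : (X * Q').Separable := hQ' ▸ hQsep
  obtain ⟨z, hz⟩ := IsSepClosed.exists_root Q' hQ'deg hsep'.of_mul_right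
  have hz0 : z ≠ 0 := by
    rintro rfl
    have h1 : X ∣ Q' := dvd_iff_isRoot.mpr hz |> fun h => by simpa using h
    exact not_isUnit_X (hsep'.isCoprime.isUnit_of_dvd' dvd_rfl h1)
  have hz' : (coordPoly p a m).eval z = z := by
    have h : Q.eval z = 0 := by rw [hQ', eval_mul, show Q'.eval z = 0 from hz, mul_zero]
    simpa [Q, sub_eq_zero] using h
  refine ⟨∑ i ∈ Finset.range (m + 1), (coordPoly p a i).eval z • T^[i] v, ?_, ?_⟩
  · intro h0
    rw [Finset.sum_range] at h0
    have := Fintype.linearIndependent_iff.mp (hli (m + 1) le_rfl) _ h0 ⟨m, by omega⟩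
    exact hz0 (hz'.symm.trans this)
  · rw [map_sum]
    simp only [hT, hsucc]
    rw [Finset.sum_range_succ, hz', hc', Finset.smul_sum]
    simp only [smul_smul]
    rw [Finset.sum_range_succ' (fun i => (z ^ p * a i) • T^[i] v) m,
      Finset.sum_range_succ' (fun i => (coordPoly p a i).eval z • T^[i] v) m, ← add_assoc, ← Finset.sum_add_distrib]
    congr 1
    · refine Finset.sum_congr rfl fun i _ => ?_
      rw [← add_smul]
      congr 1
      simp only [coordPoly, eval_add, eval_pow, eval_mul, eval_C, eval_X]
      ring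
    · congr 1
      simp only [coordPoly, eval_pow, eval_mul, eval_C, eval_X]
      ring

theorem span_fixed_eq_top (hT : ∀ (c : K) (x : V), T (c • x) = c ^ p • T x)
    (hspan : Submodule.span K (Set.range T) = ⊤) : Submodule.span K {v : V | T v = v} = ⊤ := by
  classical
  set W := Submodule.span K {v : V | T v = v}
  by_contra hne
  have hTW : ∀ w ∈ W, T w ∈ W := by
    intro w hw
    induction hw using Submodule.span_induction with
    | mem w hw => rw [show T w = w from hw]; exact Submodule.subset_span hw
    | zero => rw [map_zero]; exact zero_mem _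
    | add x y _ _ hx hy => rw [map_add]; exact add_mem hx hy
    | smul c x _ hx => rw [hT]; exact Submodule.smul_mem _ _ hx
  have hsolve : ∀ w ∈ W, ∃ y ∈ W, T y - y = w := by
    intro w hw
    induction hw using Submodule.span_induction with
    | mem w hw =>
      obtain ⟨μ, hμ⟩ := exists_pow_sub_self (p := p) (1 : K)
      refine ⟨μ • w, Submodule.smul_mem _ _ (Submodule.subset_span hw), ?_⟩
      rw [hT, show T w = w from hw, ← sub_smul, hμ, one_smul]
    | zero => exact ⟨0, zero_mem _, by simp⟩
    | add x y _ _ hx hy =>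
      obtain ⟨a, ha, rfl⟩ := hx; obtain ⟨b, hb, rfl⟩ := hy
      exact ⟨a + b, add_mem ha hb, by rw [map_add]; abel⟩
    | smul c x hxW hx =>
      -- solve for a multiple of each fixed generator
      clear hx
      induction hxW using Submodule.span_induction generalizing c with
      | mem w hw =>
        obtain ⟨μ, hμ⟩ := exists_pow_sub_self (p := p) c
        refine ⟨μ • w, Submodule.smul_mem _ _ (Submodule.subset_span hw), ?_⟩
        rw [hT, show T w = w from hw, ← sub_smul, hμ]
      | zero => exact ⟨0, zero_mem _, by simp⟩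
      | add x y _ _ hx hy =>
        obtain ⟨a, ha, hax⟩ := hx c; obtain ⟨b, hb, hby⟩ := hy c
        exact ⟨a + b, add_mem ha hb, by rw [smul_add, ← hax, ← hby, map_add]; abel⟩
      | smul d x _ hx => rw [smul_smul]; exact hx _
  let f : V →ₛₗ[frobenius K p] V := { toFun := T, map_add' := map_add T, map_smul' := fun c x => hT c x }
  let f' : (V ⧸ W) →ₛₗ[frobenius K p] (V ⧸ W) := W.mapQ W f (fun w hw => hTW w hw)
  have hspan' : Submodule.span K (Set.range f'.toAddMonoidHom) = ⊤ := by
    rw [eq_top_iff]
    intro q _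
    obtain ⟨x, rfl⟩ := W.mkQ_surjective q
    have hx : x ∈ Submodule.span K (Set.range T) := hspan ▸ Submodule.mem_top
    induction hx using Submodule.span_induction with
    | mem x hx =>
      obtain ⟨y, rfl⟩ := hx
      exact Submodule.subset_span ⟨W.mkQ y, rfl⟩
    | zero => rw [map_zero]; exact zero_mem _
    | add x y _ _ hx hy => rw [map_add]; exact add_mem (hx trivial) (hy trivial)
    | smul c x _ hx => rw [map_smul]; exact Submodule.smul_mem _ c (hx trivial)
  have hnt : Nontrivial (V ⧸ W) := Submodule.Quotient.nontrivial_iff.mpr hne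
  obtain ⟨q₀, hq₀⟩ := exists_ne (0 : V ⧸ W)
  obtain ⟨q, hq0, hq⟩ := exists_fixed_ne_zero (T := f'.toAddMonoidHom) (fun c x => f'.map_smulₛₗ c x) hspan' hq₀
  obtain ⟨x, rfl⟩ := W.mkQ_surjective q
  have hmem : T x - x ∈ W := (Submodule.Quotient.eq W).mp hq
  obtain ⟨y, hy, hyx⟩ := hsolve _ hmem
  have hfix : x - y ∈ W := Submodule.subset_span (show T (x - y) = x - y by
    rw [map_sub]
    linear_combination (norm := module) (1 : K) • hyx.symm)
  apply hq0
  rw [Submodule.mkQ_apply, Submodule.Quotient.mk_eq_zero]
  have := add_mem hfix hy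
  rwa [sub_add_cancel] at this

end Groth.Agent.H83.FrobFix
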