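import Groth.Agent.H83.FrobFix.Field
import Groth.Agent.Lib.Henselian.Etale
import Mathlib

/-! Fixed bases of Frobenius-semilinear maps over strictly henselian local rings. -/

set_option autoImplicit false

universe u v

open IsLocalRing Polynomial

namespace Groth.Agent.H83.FrobFix

variable {p : ℕ} [Fact p.Prime] {R : Type u} [CommRing R] [HenselianLocalRing R] [CharP R p]

theorem charP_residueField (p : ℕ) [Fact p.Prime] (R : Type u) [CommRing R] [IsLocalRing R] [CharP R p] :
    CharP (ResidueField R) p := by
  have h := congrArg (residue R) (CharP.cast_eq_zero R p)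
  rw [map_natCast, map_zero] at h
  exact (CharP.charP_iff_prime_eq_zero (Fact.out : p.Prime)).mpr h

theorem exists_pow_sub_self_R [IsSepClosed (ResidueField R)] (c : R) : ∃ y : R, y ^ p - y = c := by
  haveI := charP_residueField p R
  have hp : 1 < p := (Fact.out : p.Prime).one_lt
  obtain ⟨μ, hμ⟩ := exists_pow_sub_self (p := p) (residue R c)
  obtain ⟨a₀, rfl⟩ := residue_surjective μ
  let f : R[X] := X ^ p - (X + C c)
  have hm : f.Monic := monic_X_pow_sub (by rw [degree_X_add_C]; exact_mod_cast hp)
  have h0 : f.eval a₀ ∈ maximalIdeal R := by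
    rw [← residue_eq_zero_iff]
    simp [f, ← hμ, map_pow]
  have hd : IsUnit (f.derivative.eval a₀) := by
    simp [f, derivative_X_pow, CharP.cast_eq_zero]
  obtain ⟨a, ha, -⟩ := HenselianLocalRing.is_henselian f hm a₀ h0 hd
  exact ⟨a, by have := ha; simp [f] at this; linear_combination this⟩

theorem exists_mem_pow_sub_self {c : R} (hc : c ∈ maximalIdeal R) : ∃ y ∈ maximalIdeal R, y ^ p - y = c := by
  have hp : 1 < p := (Fact.out : p.Prime).one_lt
  let f : R[X] := X ^ p - (X + C c)
  have hm : f.Monic := monic_X_pow_sub (by rw [degree_X_add_C]; exact_mod_cast hp)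
  have h0 : f.eval 0 ∈ maximalIdeal R := by simp [f, zero_pow (by omega : p ≠ 0), hc]
  have hd : IsUnit (f.derivative.eval 0) := by simp [f, derivative_X_pow, CharP.cast_eq_zero]
  obtain ⟨a, ha, ha'⟩ := HenselianLocalRing.is_henselian f hm 0 h0 hd
  rw [sub_zero] at ha'
  exact ⟨a, ha', by have := ha; simp [f] at this; linear_combination this⟩

theorem eq_intCast_of_pow_eq {x : R} (hx : x ^ p = x) : ∃ i : ZMod p, ZMod.castHom dvd_rfl R i = x := by
  haveI := charP_residueField p R
  classical
  have hp : 1 < p := (Fact.out : p.Prime).one_lt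
  let φ := ZMod.castHom dvd_rfl (ResidueField R) (n := p)
  have hroots : ∀ y : ResidueField R, y ^ p = y → ∃ i, φ i = y := by
    intro y hy
    by_contra hne
    push Not at hne
    let F : (ResidueField R)[X] := X ^ p - X
    have hF : F ≠ 0 := FiniteField.X_pow_card_sub_X_ne_zero _ hp
    have hsub : insert y (Finset.univ.image φ) ⊆ F.roots.toFinset := by
      intro z hz
      rw [Multiset.mem_toFinset, mem_roots hF]
      rw [Finset.mem_insert] at hz
      rcases hz with rfl | hz
      · simp [F, hy]
      · obtain ⟨i, -, rfl⟩ := Finset.mem_image.mp hz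
        simp [F, ← map_pow, ZMod.pow_card]
    have h1 := (Finset.card_le_card hsub).trans ((Multiset.toFinset_card_le _).trans (card_roots' F))
    rw [Finset.card_insert_of_notMem (by simp; exact hne), Finset.card_image_of_injective _ φ.injective,
      Finset.card_univ, ZMod.card, FiniteField.X_pow_card_sub_X_natDegree_eq _ hp] at h1
    omega
  obtain ⟨i, hi⟩ := hroots (residue R x) (by rw [← map_pow, hx])
  refine ⟨i, ?_⟩
  set c := ZMod.castHom dvd_rfl R i
  have hc : c ^ p = c := by rw [← map_pow, ZMod.pow_card]
  have hm : x - c ∈ maximalIdeal R := by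
    rw [← residue_eq_zero_iff, map_sub, sub_eq_zero, ← hi]
    exact (DFunLike.congr_fun (RingHom.ext_zmod ((residue R).comp (ZMod.castHom dvd_rfl R)) φ) i).symm
  have hpow : (x - c) ^ p = x - c := by rw [sub_pow_char, hx, hc]
  have hu : IsUnit ((x - c) ^ (p - 1) - 1) := by
    have hmem : (x - c) ^ (p - 1) ∈ maximalIdeal R := Ideal.pow_mem_of_mem _ hm _ (by omega)
    by_contra h
    have h' : (x - c) ^ (p - 1) - 1 ∈ maximalIdeal R := h
    have := sub_mem hmem h'
    rw [sub_sub_cancel] at this
    exact (maximalIdeal.isMaximal R).ne_top ((Ideal.eq_top_iff_one _).mpr this)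
  have h : (x - c) * ((x - c) ^ (p - 1) - 1) = 0 := by
    rw [mul_sub, ← pow_succ', show p - 1 + 1 = p by omega, hpow, mul_one, sub_self]
  exact (sub_eq_zero.mp (hu.mul_left_eq_zero.mp h)).symm

theorem exists_fixed_lift [IsSepClosed (ResidueField R)] {n : ℕ} (B : Matrix (Fin n) (Fin n) R)
    (v : Fin n → ResidueField R) (hv : ∀ i, ∑ j, residue R (B i j) * v j ^ p = v i) :
    ∃ x : Fin n → R, (∀ i, ∑ j, B i j * x j ^ p = x i) ∧ ∀ i, residue R (x i) = v i := by
  classical
  let G : Fin n → MvPolynomial (Fin n) R := fun i =>
    ∑ j, MvPolynomial.C (B i j) * MvPolynomial.X j ^ p - MvPolynomial.X i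
  let S := MvPolynomial (Fin n) R ⧸ Ideal.span (Set.range G)
  let pp : Algebra.PreSubmersivePresentation R S (Fin n) (Fin n) :=
    Algebra.PreSubmersivePresentation.naive (v := G) id Function.injective_id
  have hcast : ((p : ℕ) : MvPolynomial (Fin n) R) = 0 := by
    rw [← map_natCast (MvPolynomial.C : R →+* MvPolynomial (Fin n) R), CharP.cast_eq_zero, map_zero]
  have hder : ∀ i j, MvPolynomial.pderiv i (G j) = -(1 : Matrix (Fin n) (Fin n) (MvPolynomial (Fin n) R)) i j := by
    intro i j
    simp only [G, map_sub, map_sum, MvPolynomial.pderiv_mul, MvPolynomial.pderiv_C, zero_mul, zero_add,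
      MvPolynomial.pderiv_pow, hcast, mul_zero, Finset.sum_const_zero, zero_sub]
    by_cases h : i = j
    · subst h; simp
    · simp [Matrix.one_apply_ne h, MvPolynomial.pderiv_X_of_ne (Ne.symm h)]
  have hmat : pp.jacobiMatrix = -1 := by
    ext1 i j
    rw [show pp.jacobiMatrix i j = _ from Algebra.PreSubmersivePresentation.jacobiMatrix_naive _ _ _ _ i j]
    exact hder i j
  have hunit : IsUnit pp.jacobian := by
    rw [Algebra.PreSubmersivePresentation.jacobian_eq_jacobiMatrix_det]
    refine IsUnit.map _ ?_
    rw [hmat, Matrix.det_neg, Matrix.det_one, mul_one]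
    exact (isUnit_one.neg).pow _
  let P : Algebra.SubmersivePresentation R S (Fin n) (Fin n) := { pp with jacobian_isUnit := hunit }
  haveI : Algebra.IsStandardSmoothOfRelativeDimension 0 R S :=
    P.isStandardSmoothOfRelativeDimension (by simp [Algebra.Presentation.dimension])
  haveI : Algebra.Etale R S := inferInstance
  let σ : S →ₐ[R] R ⧸ maximalIdeal R := Ideal.Quotient.liftₐ (Ideal.span (Set.range G))
    (MvPolynomial.aeval (R := R) (S₁ := R ⧸ maximalIdeal R) v) (by
      intro g hg
      induction hg using Submodule.span_induction with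
      | mem g hg =>
        obtain ⟨i, rfl⟩ := hg
        simp only [G, map_sub, map_sum, map_mul, map_pow, MvPolynomial.aeval_X, MvPolynomial.aeval_C, sub_eq_zero]
        exact hv i
      | zero => rw [map_zero]
      | add a b _ _ ha hb => rw [map_add, ha, hb, add_zero]
      | smul a b _ hb => rw [smul_eq_mul, map_mul, hb, mul_zero])
  obtain ⟨τ, hτ⟩ := Groth.Agent.Lib.Henselian.Etale.exists_algHom_lift_self (maximalIdeal R) σ
  refine ⟨fun i => τ (Ideal.Quotient.mk _ (MvPolynomial.X i)), fun i => ?_, fun i => ?_⟩
  · have h : τ (Ideal.Quotient.mkₐ R (Ideal.span (Set.range G)) (G i)) = 0 := by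
      rw [Ideal.Quotient.mkₐ_eq_mk, Ideal.Quotient.eq_zero_iff_mem.mpr (Ideal.subset_span (Set.mem_range_self i)), map_zero]
    rw [← AlgHom.comp_apply] at h
    simp only [G, map_sub, map_sum, map_mul, map_pow, MvPolynomial.algHom_C, sub_eq_zero] at h
    exact h
  · have h := DFunLike.congr_fun hτ (Ideal.Quotient.mk (Ideal.span (Set.range G)) (MvPolynomial.X i))
    exact h.trans (by exact MvPolynomial.aeval_X _ i)

variable {M : Type v} [AddCommGroup M] [Module R M]

theorem exists_fixed_basis [IsSepClosed (ResidueField R)] {n : ℕ} (b₀ : Module.Basis (Fin n) R M) (T : M →+ M)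
    (hT : ∀ (r : R) (m : M), T (r • m) = r ^ p • T m) (hspan : Submodule.span R (Set.range T) = ⊤) :
    ∃ e : Module.Basis (Fin n) R M, ∀ i, T (e i) = e i := by
  classical
  haveI := charP_residueField p R
  let B : Matrix (Fin n) (Fin n) R := fun i j => b₀.repr (T (b₀ j)) i
  have hTx : ∀ x : Fin n → R, b₀.equivFun (T (∑ j, x j • b₀ j)) = fun i => ∑ j, B i j * x j ^ p := by
    intro x
    funext i
    rw [map_sum, map_sum, Finset.sum_apply]
    exact Finset.sum_congr rfl fun j _ => by simp [hT, B, mul_comm]
  let T₀ : (Fin n → ResidueField R) →+ (Fin n → ResidueField R) :=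
    { toFun := fun x i => ∑ j, residue R (B i j) * x j ^ p
      map_zero' := funext fun i => by simp [zero_pow (Fact.out : p.Prime).ne_zero]
      map_add' := fun x y => funext fun i => by
        simp [add_pow_char, mul_add, Finset.sum_add_distrib] }
  have hT₀ : ∀ (c : ResidueField R) (x), T₀ (c • x) = c ^ p • T₀ x := fun c x => funext fun i => by
    simp [T₀, Finset.mul_sum, mul_pow, mul_left_comm]
  let red : M → (Fin n → ResidueField R) := fun m i => residue R (b₀.repr m i)
  have hred : ∀ m : M, red (T m) = T₀ (red m) := by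
    intro m
    funext i
    have h := congrFun (hTx (b₀.equivFun m)) i
    rw [b₀.sum_equivFun m] at h
    show residue R (b₀.repr (T m) i) = _
    rw [← b₀.equivFun_apply, h]
    simp [T₀, red]
  have hspan₀ : Submodule.span (ResidueField R) (Set.range T₀) = ⊤ := by
    have hall : ∀ m ∈ Submodule.span R (Set.range T), red m ∈ Submodule.span (ResidueField R) (Set.range T₀) := by
      intro m hm
      induction hm using Submodule.span_induction with
      | mem m hm => obtain ⟨w, rfl⟩ := hm; exact Submodule.subset_span ⟨red w, (hred w).symm⟩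
      | zero =>
        have h : red 0 = 0 := funext fun i => by simp [red]
        rw [h]; exact zero_mem _
      | add a b _ _ ha hb =>
        have h : red (a + b) = red a + red b := funext fun i => by simp [red]
        rw [h]; exact add_mem ha hb
      | smul r a _ ha =>
        have h : red (r • a) = residue R r • red a := funext fun i => by simp [red]
        rw [h]; exact Submodule.smul_mem _ _ ha
    rw [eq_top_iff]
    intro x _
    choose y hy using fun i => residue_surjective (x i)
    have := hall (∑ j, y j • b₀ j) (hspan ▸ Submodule.mem_top)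
    convert this
    funext i
    simp [red, hy, Finsupp.single_apply, apply_ite (residue R)]
  have htop := span_fixed_eq_top hT₀ hspan₀
  obtain ⟨s, hs, hsspan, hsli⟩ := exists_linearIndependent (ResidueField R) {v : Fin n → ResidueField R | T₀ v = v}
  let bs : Module.Basis s (ResidueField R) (Fin n → ResidueField R) :=
    Module.Basis.mk hsli (by rw [Subtype.range_coe, hsspan, htop])
  haveI : Finite s := Module.Finite.finite_basis bs
  haveI := Fintype.ofFinite s
  have hcard : Fintype.card s = n := by rw [← Module.finrank_eq_card_basis bs, Module.finrank_fin_fun]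
  let bk := bs.reindex (Fintype.equivFinOfCardEq hcard)
  have hbk : ∀ k i, ∑ j, residue R (B i j) * bk k j ^ p = bk k i := by
    intro k i
    have h1 : bk k ∈ {v : Fin n → ResidueField R | T₀ v = v} := by
      rw [Module.Basis.reindex_apply, Module.Basis.mk_apply]; exact hs (Subtype.prop _)
    exact congrFun h1 i
  choose x hx hxr using fun k => exists_fixed_lift B (bk k) (hbk k)
  let E : Matrix (Fin n) (Fin n) R := fun i k => x k i
  have hE : IsUnit E.det := by
    by_contra h
    have h' : residue R E.det = 0 := (residue_eq_zero_iff _).mpr h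
    have hmap : (residue R).mapMatrix E = (Pi.basisFun (ResidueField R) (Fin n)).toMatrix bk := by
      ext i k
      show residue R (x k i) = (Pi.basisFun (ResidueField R) (Fin n)).toMatrix bk i k
      simp [hxr, Module.Basis.toMatrix_apply]
    rw [RingHom.map_det, hmap] at h'
    have hu : IsUnit ((Pi.basisFun (ResidueField R) (Fin n)).toMatrix bk) :=
      IsUnit.of_mul_eq_one _ ((Pi.basisFun (ResidueField R) (Fin n)).toMatrix_mul_toMatrix_flip bk)
    exact ((Matrix.isUnit_iff_isUnit_det _).mp hu).ne_zero h'
  refine ⟨b₀.map (Matrix.toLinearEquiv b₀ E hE), fun k => ?_⟩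
  have hk : (b₀.map (Matrix.toLinearEquiv b₀ E hE)) k = ∑ i, x k i • b₀ i := by
    rw [Module.Basis.map_apply]
    show Matrix.toLin b₀ b₀ E (b₀ k) = _
    rw [Matrix.toLin_self]
  rw [hk]
  apply b₀.equivFun.injective
  rw [hTx, b₀.equivFun_symm_apply (x k) |>.symm, LinearEquiv.apply_symm_apply]
  exact funext (hx k)

omit [HenselianLocalRing R] [Fact p.Prime] [CharP R p] in
theorem map_sum_fixed {ι : Type*} [Fintype ι] (T : M →+ M) (hT : ∀ (r : R) (m : M), T (r • m) = r ^ p • T m)
    (e : Module.Basis ι R M) (he : ∀ i, T (e i) = e i) (c : ι → R) :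
    T (∑ i, c i • e i) = ∑ i, c i ^ p • e i := by
  rw [map_sum]; exact Finset.sum_congr rfl fun i _ => by rw [hT, he]

theorem sub_id_surjective_and_card [IsSepClosed (ResidueField R)] {ι : Type*} [Fintype ι] (T : M →+ M)
    (hT : ∀ (r : R) (m : M), T (r • m) = r ^ p • T m)
    (e : Module.Basis ι R M) (he : ∀ i, T (e i) = e i) :
    Function.Surjective (fun m => T m - m) ∧ Nat.card {m : M // T m = m} = p ^ Fintype.card ι := by
  classical
  constructor
  · intro c
    choose y hy using fun i => exists_pow_sub_self_R (p := p) (e.equivFun c i)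
    refine ⟨∑ i, y i • e i, ?_⟩
    simp only
    rw [map_sum_fixed T hT e he, ← Finset.sum_sub_distrib]
    conv_rhs => rw [← e.sum_equivFun c]
    exact Finset.sum_congr rfl fun i _ => by rw [← sub_smul, hy]
  · let g : (ι → ZMod p) → {m : M // T m = m} := fun a => ⟨∑ i, ZMod.castHom dvd_rfl R (a i) • e i, by
      rw [map_sum_fixed T hT e he]
      exact Finset.sum_congr rfl fun i _ => by rw [← map_pow, ZMod.pow_card]⟩
    have hg : Function.Bijective g := by
      constructor
      · intro a b hab
        funext i
        have h := congrArg (fun m => e.equivFun m i) (congrArg Subtype.val hab)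
        simp only [g, e.equivFun_apply, map_sum, map_smul, Finsupp.coe_finsetSum, Finset.sum_apply,
          Finsupp.smul_apply, Module.Basis.repr_self, Finsupp.single_apply, smul_eq_mul, mul_ite, mul_one,
          mul_zero, Finset.sum_ite_eq', Finset.mem_univ, if_true] at h
        exact ZMod.castHom_injective R h
      · rintro ⟨m, hm⟩
        have h : ∀ i, (e.equivFun m i) ^ p = e.equivFun m i := by
          intro i
          have h1 := map_sum_fixed T hT e he (e.equivFun m)
          rw [e.sum_equivFun m, hm] at h1
          have h2 := congrArg (fun w => e.equivFun w i) h1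
          simp only [e.equivFun_apply, map_sum, map_smul, Finsupp.coe_finsetSum, Finset.sum_apply,
            Finsupp.smul_apply, Module.Basis.repr_self, Finsupp.single_apply, smul_eq_mul, mul_ite, mul_one,
            mul_zero, Finset.sum_ite_eq', Finset.mem_univ, if_true] at h2
          exact h2.symm
        choose a ha using fun i => eq_intCast_of_pow_eq (h i)
        exact ⟨a, Subtype.ext (by simp only [g, ha]; exact e.sum_equivFun m)⟩
    rw [← Nat.card_congr (Equiv.ofBijective g hg), Nat.card_pi, Finset.prod_const, Nat.card_zmod, Finset.card_univ]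

end Groth.Agent.H83.FrobFix
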